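import Cfsg.Agent.O82C.PresR

set_option autoImplicit false
set_option Elab.async false
set_option maxRecDepth 100000
set_option linter.all false

namespace Cfsg.Agent.O82C
open Cfsg.Agent.CGT

noncomputable def ql0_n0 : Net := Net.cons 64 0x251850303ec80080 <|
  Net.cons 32 0x63110d20000000004a916ea0 <|
  Net.cons 16 0x3508000030800000891800005984 <|
  Net.cons 8 0x40008a0094000000c2003000940048 <|
  Net.cons 4 0x8040004040e0208040600020600 <|
  Net.cons 2 0x22020020000022220202022000202000 <|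
  Net.cons 1 0x44010540000041410141144100154005 <|
  Net.cons 2 0x22022020011031022202022011202120 <|
  Net.cons 4 0x10008040804030e020a000208020e00 <|
  Net.cons 8 0x40008a0094000e00c2007e00960048 <|
  Net.cons 16 0x7518000030e00000891800007984 <|
  Net.cons 32 0x63130d20000000004ad16ea0 <|
  Net.cons 64 0x251850303ec80080 <|
  Net.nil
noncomputable def ql0_n1 : Net := Net.cons 64 0x8bd8ae3cc5800000 <|
  Net.cons 32 0x3e63a8840000000075848820 <|
  Net.cons 16 0x319200002e400000c79000005a08 <|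
  Net.cons 8 0x8000dc0084009000d8006200a40050 <|
  Net.cons 4 0x800080200080800000c080000000408 <|
  Net.cons 2 0x220000000000002000200000202 <|
  Net.cons 1 0x1014111000440440001014100050454 <|
  Net.cons 2 0x20201302200002002212201300030232 <|
  Net.cons 4 0x8000709040b080d040c080d0a000408 <|
  Net.cons 8 0x8000dc0084009000d8006200a40050 <|
  Net.cons 16 0x359200002f400000c79000005a08 <|
  Net.cons 32 0x3e63a894000000007584d820 <|
  Net.cons 64 0x8bd8ae3cc5800000 <|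
  Net.nil
noncomputable def ql0_n2 : Net := Net.cons 64 0x61bb012e69500000 <|
  Net.cons 32 0x8692b01000000000610ca000 <|
  Net.cons 16 0xb7d000003d420000679800003e04 <|
  Net.cons 8 0x28002800c200200008004400bc0044 <|
  Net.cons 4 0xa060c000608080c0004080008000800 <|
  Net.cons 2 0x20200200000000220000022022000 <|
  Net.cons 1 0x51144110414041050115000414511440 <|
  Net.cons 2 0x30020200310000200230211022022012 <|
  Net.cons 4 0xa060c000908080c0208080008000404 <|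
  Net.cons 8 0xa8002a00c200200008004400bc0090 <|
  Net.cons 16 0xb7d000003d42000067b800003e24 <|
  Net.cons 32 0x8697b010000000006908a010 <|
  Net.cons 64 0x61bb012e69500000 <|
  Net.nil
noncomputable def ql0_n3 : Net := Net.cons 64 0xb502114195200800 <|
  Net.cons 32 0xac00926000000000c1f45920 <|
  Net.cons 16 0xd49200000638000001200000a268 <|
  Net.cons 8 0x200084001800800008001000040020 <|
  Net.cons 4 0xa08080a080c0408080800040000 <|
  Net.cons 2 0x22000000200202000000002000000000 <|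
  Net.cons 1 0x41111014101111040054001000400000 <|
  Net.cons 2 0x22000232200202010330302000020020 <|
  Net.cons 4 0x40a070a0a080f0408080a0c050300 <|
  Net.cons 8 0x200084001800840008001100240064 <|
  Net.cons 16 0x549200008638000081200000a268 <|
  Net.cons 32 0x2c10122100000000c1f45920 <|
  Net.cons 64 0xb502114195200800 <|
  Net.nil
noncomputable def ql0_n4 : Net := Net.cons 64 0xee251a14ae7161a0 <|
  Net.cons 32 0xe3e61d4400000000e001a408 <|
  Net.cons 16 0xd214000085000000a4c000007600 <|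
  Net.cons 8 0xc20020003000fa00360024007c0096 <|
  Net.cons 4 0x20e08040c0e000c04040004000e00 <|
  Net.cons 2 0x2020000202000202002000000000202 <|
  Net.cons 1 0x4540550414550114051555114005154 <|
  Net.cons 2 0x2022302312032022202213002330200 <|
  Net.cons 4 0x9020e08090e0e0f0d040b00040f0e0c <|
  Net.cons 8 0xc20024001700fa00760024007c0096 <|
  Net.cons 16 0xd215000085000000a4c000007448 <|
  Net.cons 32 0xe3ee1d4400000000e001a408 <|
  Net.cons 64 0xee251a14ae7161a0 <|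
  Net.nil
noncomputable def ql0_n5 : Net := Net.cons 64 0xd539708116610000 <|
  Net.cons 32 0x74187020000000008e2f7000 <|
  Net.cons 16 0x941200008c20000080200000c040 <|
  Net.cons 8 0x2000b0004a004c000a004000d0002a <|
  Net.cons 4 0x20002040200000404020c080c080400 <|
  Net.cons 2 0x200000020020002000220000000 <|
  Net.cons 1 0x1150410104015544051040114040054 <|
  Net.cons 2 0x310000213310202300220200130 <|
  Net.cons 4 0x200030d0a010b0f04020c0e0c080600 <|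
  Net.cons 8 0x200087004a00b3000a004000d2002a <|
  Net.cons 16 0x941200009c22000080200000c040 <|
  Net.cons 32 0x74187020000000008e2f7000 <|
  Net.cons 64 0xd539708116610000 <|
  Net.nil
noncomputable def ql0_n6 : Net := Net.cons 64 0x212b0b0410208000 <|
  Net.cons 32 0x422234080000000016050800 <|
  Net.cons 16 0x91220000d4400000120000008a90 <|
  Net.cons 8 0xb00038008000b00000000c001c0010 <|
  Net.cons 4 0xa08080c000006060406000008060004 <|
  Net.cons 2 0x2000000220020000020022002 <|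
  Net.cons 1 0x10150041000541140010400414014004 <|
  Net.cons 2 0x2002002110010321023010020322232 <|
  Net.cons 4 0xa000d0e000806060406020008060004 <|
  Net.cons 8 0xf0003800a000260002000c001c0010 <|
  Net.cons 16 0x91220000dc400000120000008a90 <|
  Net.cons 32 0x422eb4080000000016050800 <|
  Net.cons 64 0x212b0b0410208000 <|
  Net.nil
noncomputable def ql0_n7 : Net := Net.cons 64 0xe978404002100000 <|
  Net.cons 32 0xe28c9c4000000000d2980308 <|
  Net.cons 16 0x79a000005ea00000b04000000040 <|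
  Net.cons 8 0xda00000080006000e800b000000078 <|
  Net.cons 4 0x80002000800000404000a0804040002 <|
  Net.cons 2 0x220000002020000000000000200002 <|
  Net.cons 1 0x440150001044000000100000151004 <|
  Net.cons 2 0x30220000312020011030020210230332 <|
  Net.cons 4 0x80f06000d0400060e000a08040d0002 <|
  Net.cons 8 0xda0008008200e000e800f500000078 <|
  Net.cons 16 0x79a000005ea00000b04000000040 <|
  Net.cons 32 0xe28c9c4000000000d2980b08 <|
  Net.cons 64 0xe978404002100000 <|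
  Net.nil
noncomputable def ql0_n8 : Net := Net.cons 64 0x3d20408b1eb600a0 <|
  Net.cons 32 0x5d06e18000000000ce860500 <|
  Net.cons 16 0x5ca00000bd900000f00800000008 <|
  Net.cons 8 0x40096000a007a004c000800000008 <|
  Net.cons 4 0x8020608000408000e080c00080e06 <|
  Net.cons 2 0x22000220000000022020020000020200 <|
  Net.cons 1 0x41505441051045541040014040114414 <|
  Net.cons 2 0x22330220200220001010020200021232 <|
  Net.cons 4 0x80105080403030e00080c00080e08 <|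
  Net.cons 8 0x400a1000a008500b2004800000014 <|
  Net.cons 16 0x5ca00000bd900000f00900000008 <|
  Net.cons 32 0x5d06f18000000000ce860500 <|
  Net.cons 64 0x3d20408b1eb600a0 <|
  Net.nil
noncomputable def ql0_n9 : Net := Net.cons 64 0x7cc11c4011203000 <|
  Net.cons 32 0x56a97064000000008100430c <|
  Net.cons 16 0x30980000649400008c0000002040 <|
  Net.cons 8 0x4000800f000d8000400d200340008 <|
  Net.cons 4 0x8020400020006000000080000000c <|
  Net.cons 2 0x2002020000000000200200200220000 <|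
  Net.cons 1 0x14004515501005100110110150440550 <|
  Net.cons 2 0x2123130300333010201200230220302 <|
  Net.cons 4 0x80508000200060000000e000e000c <|
  Net.cons 8 0xc001700f000d8000400d200350008 <|
  Net.cons 16 0x30b80000749600008c0000002040 <|
  Net.cons 32 0x56a97064000000008100530c <|
  Net.cons 64 0x7cc11c4011203000 <|
  Net.nil
noncomputable def ql0_ns : List Net := [ql0_n0, ql0_n1, ql0_n2, ql0_n3, ql0_n4, ql0_n5, ql0_n6, ql0_n7, ql0_n8, ql0_n9]
noncomputable def ql0_R : List (List ℕ) := [[0, 0], [2, 2], [4, 4], [6, 6], [8, 8], [10, 10], [12, 12], [14, 14], [16, 16], [18, 18], [18, 16, 18, 16], [14, 16, 14, 16], [14, 18, 14, 18], [12, 14, 12, 14], [12, 16, 12, 16], [12, 18, 12, 18], [10, 12, 10, 12], [10, 14, 10, 14], [10, 16, 10, 16], [10, 18, 10, 18], [8, 10, 8, 10], [8, 12, 8, 12], [8, 14, 8, 14], [8, 16, 8, 16], [8, 18, 8, 18], [6, 10, 6, 10, 6, 10], [14, 6, 10, 8, 14, 6, 8, 10], [12, 6, 10, 8, 6,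 14, 6, 14, 16], [6, 12, 6, 10, 6, 12, 6, 10, 12], [14, 12, 6, 12, 6, 18, 6, 16, 6], [4, 6, 4, 6, 4, 6], [10, 8, 4, 10, 8, 14, 4, 14], [16, 12, 4, 10, 16, 4, 8, 6, 8], [8, 4, 14, 8, 18, 4, 6, 8, 6], [12, 4, 6, 18, 12, 4, 6, 18], [14, 4, 16, 14, 4, 14, 16, 4, 16], [6, 12, 4, 10, 4, 8, 4, 14, 6, 4, 10], [2, 6, 2, 6, 2, 6], [6, 10, 8, 2, 4, 2, 12, 4, 8], [4, 2, 4, 10, 4, 2, 4, 10], [2, 12, 10, 16, 2, 10, 12, 16], [4, 12, 4, 2, 4, 12, 4, 2], [2, 14, 2, 8, 2, 14, 2, 8, 14], [16, 0, 6, 0, 12, 6], [4, 0, 4, 12, 4, 0, 4, 12], [18, 4, 0, 10, 8, 14, 0, 4, 16], [14, 0, 14, 18, 0, 18], [16, 4, 0, 4, 10, 4, 0, 4, 8, 12], [18, 16, 0, 4, 14, 4, 0, 4, 6, 4], [6, 18, 10, 6, 0, 8, 0, 8, 0], [14, 0, 8, 6, 2, 6, 8, 0, 14, 2], [10, 2, 14, 2, 10, 2, 14, 2], [0, 4, 0, 4, 0, 4, 0, 4]]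
noncomputable def ql0_S0 : List (List ℕ) := [[2], [4], [6], [8], [10], [12], [14], [16], [18]]
noncomputable def ql0_E : Enum := ⟨ql0_ns, ql0_R, ql0_S0, [], 0⟩
theorem ql0_v : validAll (2 ^ 7) ql0_ns = true := by decide +kernel
theorem ql0_p0 : holdsB 7 ql0_ns ql0_R = true := by decide +kernel
theorem ql0_p : Holds (lp ql0_ns) ql0_R := holdsB_sound ql0_v ql0_p0
theorem ql0_f : allL ql0_E.Sub (fixN ql0_E.ns ql0_E.b0) = true := by decide +kernel
theorem ql0_r0 : ql0_E.run [2, 0, 10, 4, 18, 8, 26, 12, 34, 16, 42, 20, 50, 24, 58, 28, 2, 0, 10, 4, 18, 8, 26, 12, 34, 16, 50, 24, 10, 4, 52, 80, 84, 88, 148, 3, 7, 11, 15, 19, 23, 27, 31, 35, 8364, 4196, 120, 148, 12464, 4304, 4260, 52, 4180, 20660, 28, 24772, 4164, 12472, 36, 4172, 196, 16572, 16576, 16584, 37064, 100, 4220, 12444, 68, 4176, 104, 28, 4164, 16516, 24708, 12, 8360, 4, 24744, 32948, 24772, 120, 136, 24, 204, 52, 4156, 64, 4160, 4172, 172, 32, 8364, 12,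 4136, 4168, 4216, 8364, 20652, 4196, 148, 8316, 12448, 32, 4140, 12396, 20588, 4208, 20596, 28788, 12440, 4, 16536, 24728, 24, 24772, 4268, 0, 156, 8, 164, 8, 4260, 120, 152, 24728, 24, 4196, 120, 148, 68, 4176, 4200, 4244, 16492, 16512, 16536, 8, 20632, 4, 24728, 24, 4140, 120, 12444, 12452, 204, 20632, 4264, 16576, 4296, 0, 20652, 12472, 4200, 4272, 148, 4208, 20596, 32948, 52, 4172, 172, 8364, 12, 16556, 24, 4140, 12424, 36, 4260, 12448, 32948, 32, 12416, 20, 4252, 12444, 8396, 4164, 4148, 4244, 120, 4200, 4220, 16, 8316, 12424, 36, 4144, 4280, 12424, 36, 60, 64, 4168, 12448, 32, 8396, 8308, 12, 8320, 140, 28, 16536, 4264, 28, 12456, 20648, 20676, 4144, 52, 4152, 64, 4180, 4188, 64, 120, 8364, 4220, 16508, 8328, 12, 156, 8, 4252, 164, 8, 4260, 4272, 204, 208, 4304, 120, 4216, 148, 4244, 8364, 120, 12448, 12464, 4180, 172, 12396, 20588, 20596, 12416, 20, 24704, 16, 28800, 12, 8324, 16516, 36, 28804, 16, 8332,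 4248, 20, 16536, 24728, 24, 4264, 28, 20648, 180, 36, 12468, 20, 20660, 48, 4148, 4152, 4156, 64, 4164, 4172, 84, 100, 4268, 8296, 20, 28776, 20, 12424, 36, 156, 8, 160, 12448, 4260, 4156, 4216, 12424, 12448, 20676, 8380, 0, 16572, 24768, 0, 200, 28, 4296, 16584, 52, 4176, 4180, 4244, 172, 32, 16556, 12472, 36, 16568, 120, 4252, 176, 32908, 180, 20676, 188, 32, 16572, 20, 32956, 16, 16576, 24768, 0, 4296, 4144, 4148, 4168, 4172, 4184, 4188, 4192, 4152, 4156, 8364, 12, 148, 12444, 12448, 32, 24736, 4272, 12464, 44, 4144, 80, 100, 120, 148, 172, 32, 16556, 24, 12472, 36, 44, 4148, 4152, 4156, 64, 84, 4268, 8364, 120, 12424, 8352, 176, 8, 8396, 208, 28800, 12, 20612, 8, 8372, 0, 12468, 20, 16564, 16, 8388, 20, 20676, 16, 4176, 72, 4172, 96, 4136, 44, 120, 104, 28, 8296, 20, 12392, 16, 20604, 28, 12424, 36, 4252, 12448, 32, 24736, 52, 64, 68, 148, 4252, 12448, 32, 204, 8396, 4152, 64, 72, 12448, 32, 204, 4152,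 64, 16512, 32, 28800, 28812, 20632, 4, 168, 4264, 180, 36, 8372, 44, 4140, 52, 4156, 64, 84, 88, 4244, 4280, 8364, 12460, 0, 8316, 16508, 16, 28796, 136, 24, 8328, 12, 12424, 12444, 160, 4260, 12452, 4272, 208, 4304, 4148, 4152, 4156, 80, 100, 4216, 148, 172, 32, 4268, 16556, 24, 12472, 36, 40, 44, 48, 4184, 4268, 4280, 124, 20, 4252, 8352, 76, 4172, 80, 4180, 96, 4136, 4268, 0, 8364, 120, 4252, 12456, 84, 24728, 24, 4180, 12424, 36, 4272, 208, 20652, 12, 184, 28, 4280, 172, 32, 4268, 0, 12460, 4136, 4268, 0, 12460, 0, 172, 32, 8364, 12460, 124, 20, 160, 176, 8, 8368, 4196, 120, 148, 64, 104, 28, 12392, 20604, 28, 12424, 4252, 12452, 40, 84] (1 <<< 0) (List.replicate 20 0) (Enum.done 120 [0, 2, 4, 6, 8, 10, 12, 14, 16, 18]) = true := by decide +kernel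
theorem ql0_fin {G : Type*} [Group G] {γ : ℕ → G} (hR : Holds (ext γ) ql0_R) {H : Subgroup G}
    (hS : ∀ u ∈ ql0_S0, ev (ext γ) u ∈ H) : ql0_E.Fin γ H 120 [0, 2, 4, 6, 8, 10, 12, 14, 16, 18] :=
  have hy : ql0_E.Hyp γ H := Enum.hyp_of ql0_v hR ql0_p hS ql0_f
  (Enum.fin_of_done hy (Enum.inv_init 20) ql0_r0)
noncomputable def ql1_n1 : Net := Net.cons 32 0xec33b020 <|
  Net.cons 16 0x413000000240 <|
  Net.cons 8 0xd000a800a800c0 <|
  Net.cons 4 0x400040800020600 <|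
  Net.cons 2 0x200220020002000 <|
  Net.cons 1 0x4144410041104001 <|
  Net.cons 2 0x310221220022130 <|
  Net.cons 4 0xd0b040808060600 <|
  Net.cons 8 0xd00a800a800c0 <|
  Net.cons 16 0x613000001240 <|
  Net.cons 32 0xec33b020 <|
  Net.nil
noncomputable def ql1_n2 : Net := Net.cons 32 0x5713ec18 <|
  Net.cons 16 0x1600000a090 <|
  Net.cons 8 0x400e4004000b8 <|
  Net.cons 4 0x402000208060008 <|
  Net.cons 2 0x2020000000002200 <|
  Net.cons 1 0x4041005115501100 <|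
  Net.cons 2 0x2020203003012220 <|
  Net.cons 4 0x402050208060f0c <|
  Net.cons 8 0x1400ec004000b8 <|
  Net.cons 16 0x5600000a090 <|
  Net.cons 32 0x5713ec18 <|
  Net.nil
noncomputable def ql1_n3 : Net := Net.cons 32 0x20d2f600 <|
  Net.cons 16 0xa58000009100 <|
  Net.cons 8 0x6c008000d40000 <|
  Net.cons 4 0x402020202060000 <|
  Net.cons 2 0x2000000200002202 <|
  Net.cons 1 0x1405101140101404 <|
  Net.cons 2 0x3123000230302202 <|
  Net.cons 4 0xb020e0606020000 <|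
  Net.cons 8 0x6c00e400030000 <|
  Net.cons 16 0xa58000009900 <|
  Net.cons 32 0x20d2f600 <|
  Net.nil
noncomputable def ql1_n4 : Net := Net.cons 32 0x45f803c0 <|
  Net.cons 16 0x84d600003940 <|
  Net.cons 8 0x9a000600880040 <|
  Net.cons 4 0x806020000080a04 <|
  Net.cons 2 0x200000220000 <|
  Net.cons 1 0x5501455501145440 <|
  Net.cons 2 0x1001221200213202 <|
  Net.cons 4 0xb08040f080e0a04 <|
  Net.cons 8 0x9e004e00bb0074 <|
  Net.cons 16 0xe5de00008174 <|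
  Net.cons 32 0x47d90704 <|
  Net.nil
noncomputable def ql1_n5 : Net := Net.cons 32 0x2fa8ed84 <|
  Net.cons 16 0xa04c00000b28 <|
  Net.cons 8 0x68006800620028 <|
  Net.cons 4 0x4000004040a0004 <|
  Net.cons 2 0x2020202020000020 <|
  Net.cons 1 0x4014451115104440 <|
  Net.cons 2 0x2121231220020020 <|
  Net.cons 4 0xc09060f040e0e0c <|
  Net.cons 8 0x6a006800620028 <|
  Net.cons 16 0xa4e900000b28 <|
  Net.cons 32 0x2fa8ed84 <|
  Net.nil
noncomputable def ql1_n6 : Net := Net.cons 32 0x91328620 <|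
  Net.cons 16 0xce4000008ce0 <|
  Net.cons 8 0x4000580088002c <|
  Net.cons 4 0x604040c000c0000 <|
  Net.cons 2 0x2020222000000 <|
  Net.cons 1 0x5451044144500044 <|
  Net.cons 2 0x3103020222020100 <|
  Net.cons 4 0x60c0d04080c0200 <|
  Net.cons 8 0x900580088002c <|
  Net.cons 16 0xe6c700008ce0 <|
  Net.cons 32 0x91328620 <|
  Net.nil
noncomputable def ql1_n7 : Net := Net.cons 32 0x13000000 <|
  Net.cons 16 0x5900000055a8 <|
  Net.cons 8 0xb4004c00f40064 <|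
  Net.cons 4 0xe0808020c0a0802 <|
  Net.cons 2 0x200202 <|
  Net.cons 1 0x5401500554114454 <|
  Net.cons 2 0x3020310021212200 <|
  Net.cons 4 0xe080802010a080e <|
  Net.cons 8 0xb400cc00d1000c <|
  Net.cons 16 0x59000000d5a8 <|
  Net.cons 32 0x13000000 <|
  Net.nil
noncomputable def ql1_n8 : Net := Net.cons 32 0x15f20106 <|
  Net.cons 16 0x50f000004080 <|
  Net.cons 8 0xa000f000700086 <|
  Net.cons 4 0x40a080808040000 <|
  Net.cons 2 0x2000002200200002 <|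
  Net.cons 1 0x4050541150404504 <|
  Net.cons 2 0x2101012330200002 <|
  Net.cons 4 0xc0a0808080c0c00 <|
  Net.cons 8 0xa0007500720086 <|
  Net.cons 16 0x72f00000c080 <|
  Net.cons 32 0x15f20106 <|
  Net.nil
noncomputable def ql1_n9 : Net := Net.cons 32 0x3450310 <|
  Net.cons 16 0x483400008380 <|
  Net.cons 8 0xa400c800f80098 <|
  Net.cons 4 0x800080e000200 <|
  Net.cons 2 0x200020000000 <|
  Net.cons 1 0x4000450410501000 <|
  Net.cons 2 0x120200023010210 <|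
  Net.cons 4 0x908020e00020a <|
  Net.cons 8 0xa6004400fa009c <|
  Net.cons 16 0x483400008380 <|
  Net.cons 32 0x3450310 <|
  Net.nil
noncomputable def ql1_ns : List Net := [Net.nil, ql1_n1, ql1_n2, ql1_n3, ql1_n4, ql1_n5, ql1_n6, ql1_n7, ql1_n8, ql1_n9]
noncomputable def ql1_R : List (List ℕ) := [[2, 2], [4, 4], [6, 6], [8, 8], [10, 10], [12, 12], [14, 14], [16, 16], [18, 18], [18, 16, 18, 16], [14, 16, 14, 16], [14, 18, 14, 18], [12, 14, 12, 14], [12, 16, 12, 16], [12, 18, 12, 18], [10, 12, 10, 12], [10, 14, 10, 14], [10, 16, 10, 16], [10, 18, 10, 18], [8, 10, 8, 10], [8, 12, 8, 12], [8, 14, 8, 14], [8, 16, 8, 16], [8, 18, 8, 18], [6, 10, 6, 10, 6, 10], [14, 6, 10, 8, 14, 6, 8, 10], [12, 6, 10, 8, 6, 14, 6, 14, 16], [6, 12, 6, 10, 6, 12, 6, 10, 12], [14, 12, 6, 12, 6, 18, 6, 16, 6], [4, 6, 4, 6, 4, 6], [10, 8, 4, 10, 8, 14, 4, 14], [16, 12, 4, 10, 16, 4, 8, 6, 8], [8, 4, 14, 8, 18, 4, 6, 8, 6], [12, 4, 6,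 18, 12, 4, 6, 18], [14, 4, 16, 14, 4, 14, 16, 4, 16], [6, 12, 4, 10, 4, 8, 4, 14, 6, 4, 10], [2, 6, 2, 6, 2, 6], [6, 10, 8, 2, 4, 2, 12, 4, 8], [4, 2, 4, 10, 4, 2, 4, 10], [2, 12, 10, 16, 2, 10, 12, 16], [4, 12, 4, 2, 4, 12, 4, 2], [2, 14, 2, 8, 2, 14, 2, 8, 14], [10, 2, 14, 2, 10, 2, 14, 2]]
noncomputable def ql1_S0 : List (List ℕ) := [[4], [6], [8], [10], [12], [14], [16], [18]]
noncomputable def ql1_E : Enum := ⟨ql1_ns, ql1_R, ql1_S0, [], 0⟩
theorem ql1_v : validAll (2 ^ 6) ql1_ns = true := by decide +kernel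
theorem ql1_p0 : holdsB 6 ql1_ns ql1_R = true := by decide +kernel
theorem ql1_p : Holds (lp ql1_ns) ql1_R := holdsB_sound ql1_v ql1_p0
theorem ql1_f : allL ql1_E.Sub (fixN ql1_E.ns ql1_E.b0) = true := by decide +kernel
theorem ql1_r0 : ql1_E.run [10, 0, 26, 8, 34, 12, 50, 20, 58, 24, 74, 32, 10, 0, 18, 4, 26, 8, 34, 12, 50, 20, 10, 0, 44, 48, 80, 84, 92, 3, 7, 11, 15, 19, 23, 27, 31, 144, 168, 16532, 12452, 32932, 12440, 4256, 48, 56, 64, 72, 4172, 4176, 8312, 12444, 4132, 4136, 4184, 28796, 20608, 4, 32896, 116, 4212, 144, 4196, 144, 8296, 16, 16488, 8, 32872, 28, 108, 28780, 16, 8304, 8, 20592, 4224, 16512, 32, 20608, 4, 32896, 16532, 24724, 20, 4140, 64, 4164, 96, 116, 144, 8312, 12420, 32, 12440, 156, 4256, 168, 16532, 32932, 24, 116, 12420, 32, 4248, 160, 4, 4256, 12448, 56, 4176, 28828, 28, 4184, 20628, 24724, 20, 164, 8356, 4240, 4192, 116, 12420, 32, 4256, 4244, 16, 20628, 0, 32916, 12, 4260, 24, 96,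 4256, 12444, 20584, 108, 16508, 12388, 12428, 20620, 12, 28812, 24, 41100, 16, 60, 76, 20600, 12440, 12444, 28, 24732, 168, 4136, 4148, 4156, 4160, 4168, 76, 4172, 80, 4184, 4196, 20600, 24, 4248, 156, 4264, 0, 48, 4192, 4212, 144, 4240, 4156, 4160, 80, 4136, 96, 4240, 116, 12420, 12440, 12444, 28, 168, 36, 4192, 60, 16508, 28, 12436, 0, 16532, 4260, 32932, 24, 4180, 4240, 116, 120, 16, 4216, 4252, 20, 12444, 28, 4256, 4264, 0, 4136, 48, 152, 12444, 12392, 108, 20588, 20592, 32, 24700, 12, 28796, 8, 16512, 32, 4232, 4, 16520, 4244, 16, 12436, 0, 16532, 24724, 4260, 24, 8356, 0, 20644, 4136, 44, 4140, 48, 4144, 4152, 60, 4168, 92, 4132, 4240, 4192, 4228, 4, 12420, 152, 4, 160, 4, 8360, 4212, 144, 12388, 8360, 32872, 4204, 20592, 28784, 8328, 24724, 12420, 8348, 4216] (1 <<< 0) (List.replicate 20 0) (Enum.done 63 [2, 4, 6, 8, 10, 12, 14, 16, 18]) = true := by decide +kernel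
theorem ql1_fin {G : Type*} [Group G] {γ : ℕ → G} (hR : Holds (ext γ) ql1_R) {H : Subgroup G}
    (hS : ∀ u ∈ ql1_S0, ev (ext γ) u ∈ H) : ql1_E.Fin γ H 63 [2, 4, 6, 8, 10, 12, 14, 16, 18] :=
  have hy : ql1_E.Hyp γ H := Enum.hyp_of ql1_v hR ql1_p hS ql1_f
  (Enum.fin_of_done hy (Enum.inv_init 20) ql1_r0)
noncomputable def ql2_n2 : Net := Net.cons 16 0x8180 <|
  Net.cons 8 0x200030 <|
  Net.cons 4 0x600 <|
  Net.cons 2 0x2200000 <|
  Net.cons 1 0x14401051 <|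
  Net.cons 2 0x2200330 <|
  Net.cons 4 0x600 <|
  Net.cons 8 0xa90030 <|
  Net.cons 16 0x8180 <|
  Net.nil
noncomputable def ql2_n3 : Net := Net.cons 16 0x5160 <|
  Net.cons 8 0x920046 <|
  Net.cons 4 0x2000804 <|
  Net.cons 2 0x2000200 <|
  Net.cons 1 0x11104400 <|
  Net.cons 2 0x20000210 <|
  Net.cons 4 0x900090c <|
  Net.cons 8 0xd60066 <|
  Net.cons 16 0x5160 <|
  Net.nil
noncomputable def ql2_n4 : Net := Net.cons 16 0x2a0a <|
  Net.cons 8 0x8a00fc <|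
  Net.cons 4 0xa040c04 <|
  Net.cons 2 0x2002202 <|
  Net.cons 1 0x1054104 <|
  Net.cons 2 0x22101112 <|
  Net.cons 4 0xa040304 <|
  Net.cons 8 0xaa00fc <|
  Net.cons 16 0x2a0a <|
  Net.nil
noncomputable def ql2_n5 : Net := Net.cons 16 0x63c8 <|
  Net.cons 8 0xcc0088 <|
  Net.cons 4 0x804060a <|
  Net.cons 2 0x20202 <|
  Net.cons 1 0x45040154 <|
  Net.cons 2 0x3023202 <|
  Net.cons 4 0x805060a <|
  Net.cons 8 0xec0088 <|
  Net.cons 16 0x63c8 <|
  Net.nil
noncomputable def ql2_n6 : Net := Net.cons 16 0x19dc <|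
  Net.cons 8 0x200026 <|
  Net.cons 4 0x80004 <|
  Net.cons 2 0x20000 <|
  Net.cons 1 0x11410050 <|
  Net.cons 2 0x2110132 <|
  Net.cons 4 0x50204 <|
  Net.cons 8 0x2b0066 <|
  Net.cons 16 0x19dc <|
  Net.nil
noncomputable def ql2_n7 : Net := Net.cons 16 0xb8 <|
  Net.cons 8 0x14 <|
  Net.cons 4 0xa0204 <|
  Net.cons 2 0x200002 <|
  Net.cons 1 0x1101004 <|
  Net.cons 2 0x230102 <|
  Net.cons 4 0xa020c <|
  Net.cons 8 0x14 <|
  Net.cons 16 0xb8 <|
  Net.nil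
noncomputable def ql2_n8 : Net := Net.cons 16 0x1fe <|
  Net.cons 8 0x920044 <|
  Net.cons 4 0xa040e04 <|
  Net.cons 2 0x2202202 <|
  Net.cons 1 0x11451454 <|
  Net.cons 2 0x2201330 <|
  Net.cons 4 0xa040904 <|
  Net.cons 8 0x92000e <|
  Net.cons 16 0x1fe <|
  Net.nil
noncomputable def ql2_n9 : Net := Net.cons 16 0x1bc8 <|
  Net.cons 8 0xa00060 <|
  Net.cons 4 0xa0002 <|
  Net.cons 2 0x20002002 <|
  Net.cons 1 0x11504114 <|
  Net.cons 2 0x2012002 <|
  Net.cons 4 0xb0a040e <|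
  Net.cons 8 0xb20004 <|
  Net.cons 16 0x1bc8 <|
  Net.nil
noncomputable def ql2_ns : List Net := [Net.nil, Net.nil, ql2_n2, ql2_n3, ql2_n4, ql2_n5, ql2_n6, ql2_n7, ql2_n8, ql2_n9]
noncomputable def ql2_R : List (List ℕ) := [[4, 4], [6, 6], [8, 8], [10, 10], [12, 12], [14, 14], [16, 16], [18, 18], [18, 16, 18, 16], [14, 16, 14, 16], [14, 18, 14, 18], [12, 14, 12, 14], [12, 16, 12, 16], [12, 18, 12, 18], [10, 12, 10, 12], [10, 14, 10, 14], [10, 16, 10, 16], [10, 18, 10, 18], [8, 10, 8, 10], [8, 12, 8, 12], [8, 14, 8, 14], [8, 16, 8, 16], [8, 18, 8, 18], [6, 10, 6, 10, 6, 10], [14, 6, 10, 8, 14, 6, 8, 10], [12, 6, 10, 8, 6, 14, 6, 14, 16], [6, 12, 6, 10, 6, 12, 6, 10, 12], [14, 12, 6, 12, 6, 18, 6, 16, 6], [4, 6, 4, 6, 4, 6], [10, 8, 4, 10, 8, 14, 4, 14], [16, 12, 4, 10, 16, 4, 8, 6, 8], [8, 4, 14, 8, 18, 4, 6, 8, 6], [12, 4, 6, 18, 12, 4, 6, 18], [14, 4, 16, 14, 4, 14, 16, 4, 16], [6, 12, 4, 10, 4, 8, 4, 14,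 6, 4, 10]]
noncomputable def ql2_S0 : List (List ℕ) := [[6], [8], [10], [12], [14], [16], [18]]
noncomputable def ql2_E : Enum := ⟨ql2_ns, ql2_R, ql2_S0, [], 0⟩
theorem ql2_v : validAll (2 ^ 5) ql2_ns = true := by decide +kernel
theorem ql2_p0 : holdsB 5 ql2_ns ql2_R = true := by decide +kernel
theorem ql2_p : Holds (lp ql2_ns) ql2_R := holdsB_sound ql2_v ql2_p0
theorem ql2_f : allL ql2_E.Sub (fixN ql2_E.ns ql2_E.b0) = true := by decide +kernel
theorem ql2_r0 : ql2_E.run [18, 0, 26, 4, 34, 8, 42, 12, 18, 0, 26, 4, 42, 12, 50, 16, 18, 0, 56, 72, 4188, 3, 7, 11, 15, 19, 23, 27, 112, 20596, 20, 4156, 96, 20, 4156, 16504, 24, 16508, 28, 32892, 4, 16516, 4132, 4136, 4188, 4208, 16508, 28, 4136, 128, 16, 44, 52, 4144, 12388, 20580, 20588, 4232, 16, 20616, 8, 37000, 4140, 72, 76, 4208, 20596, 20, 12416, 28, 40, 4140, 52, 32868, 24, 4200, 16, 12392, 108, 20588, 28780, 120, 24, 8312, 0, 16504, 24, 12412, 8, 16508, 28,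 24700, 4228, 0, 8324, 24, 32, 4208, 24696, 136, 12424, 20616, 28808, 92, 4212, 4200, 28780, 16504, 16508, 128, 8328, 32904, 4, 41096, 96, 4200, 20588, 28780] (1 <<< 0) (List.replicate 20 0) (Enum.done 30 [4, 6, 8, 10, 12, 14, 16, 18]) = true := by decide +kernel
theorem ql2_fin {G : Type*} [Group G] {γ : ℕ → G} (hR : Holds (ext γ) ql2_R) {H : Subgroup G}
    (hS : ∀ u ∈ ql2_S0, ev (ext γ) u ∈ H) : ql2_E.Fin γ H 30 [4, 6, 8, 10, 12, 14, 16, 18] :=
  have hy : ql2_E.Hyp γ H := Enum.hyp_of ql2_v hR ql2_p hS ql2_f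
  (Enum.fin_of_done hy (Enum.inv_init 20) ql2_r0)
noncomputable def ql3_n3 : Net := Net.cons 8 0x90 <|
  Net.cons 4 0x200 <|
  Net.cons 1 0x1001 <|
  Net.cons 4 0xa04 <|
  Net.cons 8 0x90 <|
  Net.nil
noncomputable def ql3_n4 : Net := Net.cons 4 0x6 <|
  Net.cons 1 0x50 <|
  Net.cons 2 0x132 <|
  Net.cons 4 0x6 <|
  Net.nil
noncomputable def ql3_n5 : Net := Net.cons 8 0x90 <|
  Net.cons 4 0x804 <|
  Net.cons 2 0x20 <|
  Net.cons 1 0x440 <|
  Net.cons 2 0x22 <|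
  Net.cons 4 0x904 <|
  Net.cons 8 0x90 <|
  Net.nil
noncomputable def ql3_n6 : Net := Net.cons 8 0x28 <|
  Net.cons 4 0x40a <|
  Net.cons 2 0x2200 <|
  Net.cons 1 0x4114 <|
  Net.cons 2 0x2200 <|
  Net.cons 4 0x40a <|
  Net.cons 8 0x28 <|
  Net.nil
noncomputable def ql3_n7 : Net := Net.cons 8 0x90 <|
  Net.cons 4 0xc00 <|
  Net.cons 2 0x200 <|
  Net.cons 1 0x104 <|
  Net.cons 2 0x1200 <|
  Net.cons 4 0xc02 <|
  Net.cons 8 0x90 <|
  Net.nil
noncomputable def ql3_n8 : Net := Net.cons 8 0x28 <|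
  Net.cons 4 0x40a <|
  Net.cons 2 0x2200 <|
  Net.cons 1 0x4114 <|
  Net.cons 2 0x2200 <|
  Net.cons 4 0x40a <|
  Net.cons 8 0x28 <|
  Net.nil
noncomputable def ql3_n9 : Net := Net.cons 8 0x90 <|
  Net.cons 4 0xc00 <|
  Net.cons 2 0x200 <|
  Net.cons 1 0x104 <|
  Net.cons 2 0x1200 <|
  Net.cons 4 0xc02 <|
  Net.cons 8 0x90 <|
  Net.nil
noncomputable def ql3_ns : List Net := [Net.nil, Net.nil, Net.nil, ql3_n3, ql3_n4, ql3_n5, ql3_n6, ql3_n7, ql3_n8, ql3_n9]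
noncomputable def ql3_R : List (List ℕ) := [[6, 6], [8, 8], [10, 10], [12, 12], [14, 14], [16, 16], [18, 18], [18, 16, 18, 16], [14, 16, 14, 16], [14, 18, 14, 18], [12, 14, 12, 14], [12, 16, 12, 16], [12, 18, 12, 18], [10, 12, 10, 12], [10, 14, 10, 14], [10, 16, 10, 16], [10, 18, 10, 18], [8, 10, 8, 10], [8, 12, 8, 12], [8, 14, 8, 14], [8, 16, 8, 16], [8, 18, 8, 18], [6, 10, 6, 10, 6, 10], [14, 6, 10, 8, 14, 6, 8, 10], [12, 6, 10, 8, 6, 14, 6, 14, 16], [6, 12, 6, 10, 6, 12, 6, 10, 12], [14, 12, 6, 12, 6, 18, 6, 16, 6]]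
noncomputable def ql3_S0 : List (List ℕ) := [[8], [10], [12], [14], [16], [18]]
noncomputable def ql3_E : Enum := ⟨ql3_ns, ql3_R, ql3_S0, [], 0⟩
theorem ql3_v : validAll (2 ^ 4) ql3_ns = true := by decide +kernel
theorem ql3_p0 : holdsB 4 ql3_ns ql3_R = true := by decide +kernel
theorem ql3_p : Holds (lp ql3_ns) ql3_R := holdsB_sound ql3_v ql3_p0
theorem ql3_f : allL ql3_E.Sub (fixN ql3_E.ns ql3_E.b0) = true := by decide +kernel
theorem ql3_r0 : ql3_E.run [26, 0, 34, 4, 42, 8, 50, 12, 26, 0, 52, 68, 72, 3, 7, 11, 15, 19, 23, 88, 92, 16, 4136, 4152, 16480, 32864, 20, 100, 4196, 12388, 104, 20584, 4156, 4184, 12380, 4192, 12384, 20576, 32864, 4196, 12388, 20584, 24, 28776, 12380] (1 <<< 0) (List.replicate 20 0) (Enum.done 12 [6, 8, 10, 12, 14, 16, 18]) = true := by decide +kernel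
theorem ql3_fin {G : Type*} [Group G] {γ : ℕ → G} (hR : Holds (ext γ) ql3_R) {H : Subgroup G}
    (hS : ∀ u ∈ ql3_S0, ev (ext γ) u ∈ H) : ql3_E.Fin γ H 12 [6, 8, 10, 12, 14, 16, 18] :=
  have hy : ql3_E.Hyp γ H := Enum.hyp_of ql3_v hR ql3_p hS ql3_f
  (Enum.fin_of_done hy (Enum.inv_init 20) ql3_r0)
noncomputable def ql4_n4 : Net := Net.cons 1 0x1 <|
  Net.nil
noncomputable def ql4_ns : List Net := [Net.nil, Net.nil, Net.nil, Net.nil, ql4_n4, Net.nil, Net.nil, Net.nil, Net.nil, Net.nil]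
noncomputable def ql4_R : List (List ℕ) := [[8, 8], [10, 10], [12, 12], [14, 14], [16, 16], [18, 18], [18, 16, 18, 16], [14, 16, 14, 16], [14, 18, 14, 18], [12, 14, 12, 14], [12, 16, 12, 16], [12, 18, 12, 18], [10, 12, 10, 12], [10, 14, 10, 14], [10, 16, 10, 16], [10, 18, 10, 18], [8, 10, 8, 10], [8, 12, 8, 12], [8, 14, 8, 14], [8, 16, 8, 16], [8, 18, 8, 18]]
noncomputable def ql4_S0 : List (List ℕ) := [[10], [12], [14], [16], [18]]
noncomputable def ql4_E : Enum := ⟨ql4_ns, ql4_R, ql4_S0, [], 0⟩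
theorem ql4_v : validAll (2 ^ 3) ql4_ns = true := by decide +kernel
theorem ql4_p0 : holdsB 3 ql4_ns ql4_R = true := by decide +kernel
theorem ql4_p : Holds (lp ql4_ns) ql4_R := holdsB_sound ql4_v ql4_p0
theorem ql4_f : allL ql4_E.Sub (fixN ql4_E.ns ql4_E.b0) = true := by decide +kernel
theorem ql4_r0 : ql4_E.run [34, 0, 3, 7, 11, 15, 19, 4160, 4164, 4168, 4172, 4176] (1 <<< 0) (List.replicate 20 0) (Enum.done 2 [8, 10, 12, 14, 16, 18]) = true := by decide +kernel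
theorem ql4_fin {G : Type*} [Group G] {γ : ℕ → G} (hR : Holds (ext γ) ql4_R) {H : Subgroup G}
    (hS : ∀ u ∈ ql4_S0, ev (ext γ) u ∈ H) : ql4_E.Fin γ H 2 [8, 10, 12, 14, 16, 18] :=
  have hy : ql4_E.Hyp γ H := Enum.hyp_of ql4_v hR ql4_p hS ql4_f
  (Enum.fin_of_done hy (Enum.inv_init 20) ql4_r0)
noncomputable def ql5_n5 : Net := Net.cons 1 0x1 <|
  Net.nil
noncomputable def ql5_ns : List Net := [Net.nil, Net.nil, Net.nil, Net.nil, Net.nil, ql5_n5, Net.nil, Net.nil, Net.nil, Net.nil]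
noncomputable def ql5_R : List (List ℕ) := [[10, 10], [12, 12], [14, 14], [16, 16], [18, 18], [18, 16, 18, 16], [14, 16, 14, 16], [14, 18, 14, 18], [12, 14, 12, 14], [12, 16, 12, 16], [12, 18, 12, 18], [10, 12, 10, 12], [10, 14, 10, 14], [10, 16, 10, 16], [10, 18, 10, 18]]
noncomputable def ql5_S0 : List (List ℕ) := [[12], [14], [16], [18]]
noncomputable def ql5_E : Enum := ⟨ql5_ns, ql5_R, ql5_S0, [], 0⟩
theorem ql5_v : validAll (2 ^ 3) ql5_ns = true := by decide +kernel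
theorem ql5_p0 : holdsB 3 ql5_ns ql5_R = true := by decide +kernel
theorem ql5_p : Holds (lp ql5_ns) ql5_R := holdsB_sound ql5_v ql5_p0
theorem ql5_f : allL ql5_E.Sub (fixN ql5_E.ns ql5_E.b0) = true := by decide +kernel
theorem ql5_r0 : ql5_E.run [42, 0, 3, 7, 11, 15, 4140, 4144, 4148, 4152] (1 <<< 0) (List.replicate 20 0) (Enum.done 2 [10, 12, 14, 16, 18]) = true := by decide +kernel
theorem ql5_fin {G : Type*} [Group G] {γ : ℕ → G} (hR : Holds (ext γ) ql5_R) {H : Subgroup G}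
    (hS : ∀ u ∈ ql5_S0, ev (ext γ) u ∈ H) : ql5_E.Fin γ H 2 [10, 12, 14, 16, 18] :=
  have hy : ql5_E.Hyp γ H := Enum.hyp_of ql5_v hR ql5_p hS ql5_f
  (Enum.fin_of_done hy (Enum.inv_init 20) ql5_r0)
noncomputable def ql6_n6 : Net := Net.cons 1 0x1 <|
  Net.nil
noncomputable def ql6_ns : List Net := [Net.nil, Net.nil, Net.nil, Net.nil, Net.nil, Net.nil, ql6_n6, Net.nil, Net.nil, Net.nil]
noncomputable def ql6_R : List (List ℕ) := [[12, 12], [14, 14], [16, 16], [18, 18], [18, 16, 18, 16], [14, 16, 14, 16], [14, 18, 14, 18], [12, 14, 12, 14], [12, 16, 12, 16], [12, 18, 12, 18]]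
noncomputable def ql6_S0 : List (List ℕ) := [[14], [16], [18]]
noncomputable def ql6_E : Enum := ⟨ql6_ns, ql6_R, ql6_S0, [], 0⟩
theorem ql6_v : validAll (2 ^ 3) ql6_ns = true := by decide +kernel
theorem ql6_p0 : holdsB 3 ql6_ns ql6_R = true := by decide +kernel
theorem ql6_p : Holds (lp ql6_ns) ql6_R := holdsB_sound ql6_v ql6_p0
theorem ql6_f : allL ql6_E.Sub (fixN ql6_E.ns ql6_E.b0) = true := by decide +kernel
theorem ql6_r0 : ql6_E.run [50, 0, 3, 7, 11, 4124, 4128, 4132] (1 <<< 0) (List.replicate 20 0) (Enum.done 2 [12, 14, 16, 18]) = true := by decide +kernel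
theorem ql6_fin {G : Type*} [Group G] {γ : ℕ → G} (hR : Holds (ext γ) ql6_R) {H : Subgroup G}
    (hS : ∀ u ∈ ql6_S0, ev (ext γ) u ∈ H) : ql6_E.Fin γ H 2 [12, 14, 16, 18] :=
  have hy : ql6_E.Hyp γ H := Enum.hyp_of ql6_v hR ql6_p hS ql6_f
  (Enum.fin_of_done hy (Enum.inv_init 20) ql6_r0)
noncomputable def ql7_n7 : Net := Net.cons 1 0x1 <|
  Net.nil
noncomputable def ql7_ns : List Net := [Net.nil, Net.nil, Net.nil, Net.nil, Net.nil, Net.nil, Net.nil, ql7_n7, Net.nil, Net.nil]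
noncomputable def ql7_R : List (List ℕ) := [[14, 14], [16, 16], [18, 18], [18, 16, 18, 16], [14, 16, 14, 16], [14, 18, 14, 18]]
noncomputable def ql7_S0 : List (List ℕ) := [[16], [18]]
noncomputable def ql7_E : Enum := ⟨ql7_ns, ql7_R, ql7_S0, [], 0⟩
theorem ql7_v : validAll (2 ^ 3) ql7_ns = true := by decide +kernel
theorem ql7_p0 : holdsB 3 ql7_ns ql7_R = true := by decide +kernel
theorem ql7_p : Holds (lp ql7_ns) ql7_R := holdsB_sound ql7_v ql7_p0
theorem ql7_f : allL ql7_E.Sub (fixN ql7_E.ns ql7_E.b0) = true := by decide +kernel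
theorem ql7_r0 : ql7_E.run [58, 0, 3, 7, 4112, 4116] (1 <<< 0) (List.replicate 20 0) (Enum.done 2 [14, 16, 18]) = true := by decide +kernel
theorem ql7_fin {G : Type*} [Group G] {γ : ℕ → G} (hR : Holds (ext γ) ql7_R) {H : Subgroup G}
    (hS : ∀ u ∈ ql7_S0, ev (ext γ) u ∈ H) : ql7_E.Fin γ H 2 [14, 16, 18] :=
  have hy : ql7_E.Hyp γ H := Enum.hyp_of ql7_v hR ql7_p hS ql7_f
  (Enum.fin_of_done hy (Enum.inv_init 20) ql7_r0)
noncomputable def ql8_n8 : Net := Net.cons 1 0x1 <|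
  Net.nil
noncomputable def ql8_ns : List Net := [Net.nil, Net.nil, Net.nil, Net.nil, Net.nil, Net.nil, Net.nil, Net.nil, ql8_n8, Net.nil]
noncomputable def ql8_R : List (List ℕ) := [[16, 16], [18, 18], [18, 16, 18, 16]]
noncomputable def ql8_S0 : List (List ℕ) := [[18]]
noncomputable def ql8_E : Enum := ⟨ql8_ns, ql8_R, ql8_S0, [], 0⟩
theorem ql8_v : validAll (2 ^ 3) ql8_ns = true := by decide +kernel
theorem ql8_p0 : holdsB 3 ql8_ns ql8_R = true := by decide +kernel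
theorem ql8_p : Holds (lp ql8_ns) ql8_R := holdsB_sound ql8_v ql8_p0
theorem ql8_f : allL ql8_E.Sub (fixN ql8_E.ns ql8_E.b0) = true := by decide +kernel
theorem ql8_r0 : ql8_E.run [66, 0, 3, 8] (1 <<< 0) (List.replicate 20 0) (Enum.done 2 [16, 18]) = true := by decide +kernel
theorem ql8_fin {G : Type*} [Group G] {γ : ℕ → G} (hR : Holds (ext γ) ql8_R) {H : Subgroup G}
    (hS : ∀ u ∈ ql8_S0, ev (ext γ) u ∈ H) : ql8_E.Fin γ H 2 [16, 18] :=
  have hy : ql8_E.Hyp γ H := Enum.hyp_of ql8_v hR ql8_p hS ql8_f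
  (Enum.fin_of_done hy (Enum.inv_init 20) ql8_r0)
noncomputable def ql9_n9 : Net := Net.cons 1 0x1 <|
  Net.nil
noncomputable def ql9_ns : List Net := [Net.nil, Net.nil, Net.nil, Net.nil, Net.nil, Net.nil, Net.nil, Net.nil, Net.nil, ql9_n9]
noncomputable def ql9_R : List (List ℕ) := [[18, 18]]
noncomputable def ql9_S0 : List (List ℕ) := []
noncomputable def ql9_E : Enum := ⟨ql9_ns, ql9_R, ql9_S0, [], 0⟩
theorem ql9_v : validAll (2 ^ 3) ql9_ns = true := by decide +kernel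
theorem ql9_p0 : holdsB 3 ql9_ns ql9_R = true := by decide +kernel
theorem ql9_p : Holds (lp ql9_ns) ql9_R := holdsB_sound ql9_v ql9_p0
theorem ql9_f : allL ql9_E.Sub (fixN ql9_E.ns ql9_E.b0) = true := by decide +kernel
theorem ql9_r0 : ql9_E.run [74, 0] (1 <<< 0) (List.replicate 20 0) (Enum.done 2 [18]) = true := by decide +kernel
theorem ql9_fin {G : Type*} [Group G] {γ : ℕ → G} (hR : Holds (ext γ) ql9_R) {H : Subgroup G}
    (hS : ∀ u ∈ ql9_S0, ev (ext γ) u ∈ H) : ql9_E.Fin γ H 2 [18] :=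
  have hy : ql9_E.Hyp γ H := Enum.hyp_of ql9_v hR ql9_p hS ql9_f
  (Enum.fin_of_done hy (Enum.inv_init 20) ql9_r0)
theorem qbd9 {G : Type*} [Group G] {γ : ℕ → G} (hR : Holds (ext γ) qRR) : Bd (gp γ [18]) 2 :=
  Bd.step (ql9_fin (hR.subR (by decide +kernel)) (wordsIn_sound γ (L := []) (by decide +kernel))) (Bd.gp_nil γ) (by norm_num)
theorem qbd8 {G : Type*} [Group G] {γ : ℕ → G} (hR : Holds (ext γ) qRR) : Bd (gp γ [16, 18]) 4 :=
  Bd.step (ql8_fin (hR.subR (by decide +kernel)) (wordsIn_sound γ (L := [18]) (by decide +kernel))) (qbd9 hR) (by norm_num)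
theorem qbd7 {G : Type*} [Group G] {γ : ℕ → G} (hR : Holds (ext γ) qRR) : Bd (gp γ [14, 16, 18]) 8 :=
  Bd.step (ql7_fin (hR.subR (by decide +kernel)) (wordsIn_sound γ (L := [16, 18]) (by decide +kernel))) (qbd8 hR) (by norm_num)
theorem qbd6 {G : Type*} [Group G] {γ : ℕ → G} (hR : Holds (ext γ) qRR) : Bd (gp γ [12, 14, 16, 18]) 16 :=
  Bd.step (ql6_fin (hR.subR (by decide +kernel)) (wordsIn_sound γ (L := [14, 16, 18]) (by decide +kernel))) (qbd7 hR) (by norm_num)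
theorem qbd5 {G : Type*} [Group G] {γ : ℕ → G} (hR : Holds (ext γ) qRR) : Bd (gp γ [10, 12, 14, 16, 18]) 32 :=
  Bd.step (ql5_fin (hR.subR (by decide +kernel)) (wordsIn_sound γ (L := [12, 14, 16, 18]) (by decide +kernel))) (qbd6 hR) (by norm_num)
theorem qbd4 {G : Type*} [Group G] {γ : ℕ → G} (hR : Holds (ext γ) qRR) : Bd (gp γ [8, 10, 12, 14, 16, 18]) 64 :=
  Bd.step (ql4_fin (hR.subR (by decide +kernel)) (wordsIn_sound γ (L := [10, 12, 14, 16, 18]) (by decide +kernel))) (qbd5 hR) (by norm_num)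
theorem qbd3 {G : Type*} [Group G] {γ : ℕ → G} (hR : Holds (ext γ) qRR) : Bd (gp γ [6, 8, 10, 12, 14, 16, 18]) 768 :=
  Bd.step (ql3_fin (hR.subR (by decide +kernel)) (wordsIn_sound γ (L := [8, 10, 12, 14, 16, 18]) (by decide +kernel))) (qbd4 hR) (by norm_num)
theorem qbd2 {G : Type*} [Group G] {γ : ℕ → G} (hR : Holds (ext γ) qRR) : Bd (gp γ [4, 6, 8, 10, 12, 14, 16, 18]) 23040 :=
  Bd.step (ql2_fin (hR.subR (by decide +kernel)) (wordsIn_sound γ (L := [6, 8, 10, 12, 14, 16, 18]) (by decide +kernel))) (qbd3 hR) (by norm_num)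
theorem qbd1 {G : Type*} [Group G] {γ : ℕ → G} (hR : Holds (ext γ) qRR) : Bd (gp γ [2, 4, 6, 8, 10, 12, 14, 16, 18]) 1451520 :=
  Bd.step (ql1_fin (hR.subR (by decide +kernel)) (wordsIn_sound γ (L := [4, 6, 8, 10, 12, 14, 16, 18]) (by decide +kernel))) (qbd2 hR) (by norm_num)
theorem qbd0 {G : Type*} [Group G] {γ : ℕ → G} (hR : Holds (ext γ) qRR) : Bd (gp γ [0, 2, 4, 6, 8, 10, 12, 14, 16, 18]) 174182400 :=
  Bd.step (ql0_fin (hR.subR (by decide +kernel)) (wordsIn_sound γ (L := [2, 4, 6, 8, 10, 12, 14, 16, 18]) (by decide +kernel))) (qbd1 hR) (by norm_num)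

end Cfsg.Agent.O82C
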