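import Cfsg.Agent.Mult.Slices
import Cfsg.Agent.O82C.Base
import Cfsg.Agent.O82C.Tabs
import Cfsg.Agent.O82C.Pres

set_option autoImplicit false
set_option Elab.async false
set_option maxRecDepth 100000
set_option linter.all false

namespace Cfsg.Agent.O82C
open Cfsg.Agent.CGT

open Cfsg.Agent.Mult

noncomputable def Ws : List (List ℕ) := [[11, 8, 3, 0, 5, 2, 4, 8, 11], [7, 5, 0, 3, 7], [1, 4, 0, 2, 9, 11, 8, 10, 2, 1, 4, 0], [10, 11, 8, 3, 5, 2, 10, 4, 11, 8], [10, 3, 5, 2, 9, 2, 5], [10, 8, 11, 9], [2, 5, 4, 3, 10, 2, 5, 3], [4, 11, 10, 8, 4], [10], [8, 11]]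
noncomputable def Us : List (List ℕ) := [[14, 12, 6, 12, 0, 14], [12, 8, 16, 4, 10, 18, 2, 18, 2, 4], [4, 2, 4, 8, 0, 8, 4, 2, 4], [6, 16, 10, 18, 6], [18, 14, 6, 12, 6], [0, 14, 2, 0, 2, 14, 0], [0, 10, 0, 10, 0], [2, 8, 4, 8, 2, 18], [4, 2, 8, 0, 8, 2, 4], [16, 10, 18], [16], [4, 2, 8, 0, 8, 2, 4, 18]]
noncomputable def Rs : List Pl := [[(0xaf, 0), (0x9b, 0), (4, 0), (0x3f, 0), (0xbe, 0), (0xb9, 0), (0xd9, 0), (0xb7, 0)],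
  [(0xaf, 0), (0x9b, 0), (4, 0), (0x3f, 0), (0xbe, 0), (0xb9, 0), (0xd9, 0), (0xb7, 0)],
  [(0x7b, 0), (0x52, 0), (0x7e, 0), (8, 0), (0x10, 0), (0x70, 0), (0x40, 0), (0xd0, 0)],
  [(0x7b, 0), (0x52, 0), (0x7e, 0), (8, 0), (0x10, 0), (0x70, 0), (0x40, 0), (0xd0, 0)],
  [(0x9f, 0), (0x69, 0), (0x6f, 0), (0x96, 0), (0x7b, 0), (0xd5, 0), (0xde, 0), (0x75, 0)],
  [(0x9f, 0), (0x69, 0), (0x6f, 0), (0x96, 0), (0x7b, 0), (0xd5, 0), (0xde, 0), (0x75, 0)],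
  [(0x12, 0), (2, 0), (4, 0), (0x86, 0), (3, 0), (0xbd, 0), (0xce, 0), (0xe, 0)],
  [(0x12, 0), (2, 0), (4, 0), (0x86, 0), (3, 0), (0xbd, 0), (0xce, 0), (0xe, 0)],
  [(1, 0), (2, 0), (4, 0), (0xa, 0), (0x16, 0), (0xab, 0), (0x41, 0), (0x82, 0)],
  [(1, 0), (2, 0), (4, 0), (0xa, 0), (0x16, 0), (0xab, 0), (0x41, 0), (0x82, 0)],
  [(1, 0), (2, 0), (4, 0), (9, 0), (0x9f, 0), (0x21, 0), (0x41, 0), (0x81, 0)],
  [(1, 0), (2, 0), (4, 0), (9, 0), (0x9f, 0), (0x21, 0), (0x41, 0), (0x81, 0)],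
  [(1, 0), (2, 0), (4, 0), (0xc, 0), (0x14, 0), (0x24, 0), (0xcf, 0), (0x84, 0)],
  [(1, 0), (2, 0), (4, 0), (0xc, 0), (0x14, 0), (0x24, 0), (0xcf, 0), (0x84, 0)],
  [(1, 0), (2, 0), (4, 0), (0xd, 0), (0x99, 0), (0x20, 0), (0xcc, 0), (0x85, 0)],
  [(1, 0), (2, 0), (4, 0), (0xd, 0), (0x99, 0), (0x20, 0), (0xcc, 0), (0x85, 0)],
  [(1, 0), (2, 0), (4, 0), (8, 0), (0x14, 0), (0x20, 0), (0x41, 0), (0x80, 0)],
  [(1, 0), (2, 0), (4, 0), (8, 0), (0x14, 0), (0x20, 0), (0x41, 0), (0x80, 0)],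
  [(1, 0), (2, 0), (4, 0), (9, 0), (0x99, 0), (0x20, 0), (0x40, 0), (0x81, 0)],
  [(1, 0), (2, 0), (4, 0), (9, 0), (0x99, 0), (0x20, 0), (0x40, 0), (0x81, 0)]]
noncomputable def Ts0 : List ((ZMod 2) × Pl) := [(1, [(1, 0), (2, 0), (4, 0), (8, 0), (0x10, 0), (0x20, 0), (0x40, 0), (0x80, 0)])]
noncomputable def Ts : List Pl := Ts0.map Prod.snd
noncomputable def Ps : Pl := [(0xffffffffffffffff00000000000000, 0), (0xffffffff00000000ffffffff000000, 0), (0xffff0000ffff0000ffff0000ffff00, 0), (0xff00ff00ff00ff00ff00ff00ff00ff, 0), (0xf0f0f0f0f0f0f0fff0f0f0f0f0f0f0, 0), (0xcccccc0fccccccf0ccccccffcccccc, 0), (0xaac3aaccaa0faaccaa33aaccaaffaa, 0), (0x69aac3aaa5aa0faa99aa33aa55aaff, 0)]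

end Cfsg.Agent.O82C
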